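import Mathlib.AlgebraicGeometry.Properties
import Mathlib.AlgebraicGeometry.Noetherian
import Mathlib.Topology.KrullDimension

/-!
# Dimension of closed subsets in terms of codimension
-/

set_option autoImplicit false
set_option linter.style.haveILetI false

universe u

open CategoryTheory AlgebraicGeometry TopologicalSpace Order

namespace CohAmpLib

theorem krullDim_congr {α : Type*} (p q : Preorder α) (h : ∀ a b : α, p.le a b ↔ q.le a b) :
    @krullDim α p = @krullDim α q :=
  @krullDim_eq_of_orderIso α α p q
    (@RelIso.mk α α p.le q.le (Equiv.refl α) (fun {a b} => (h a b).symm))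

variable {X : Scheme.{u}}

/-- A closed set all of whose points have codimension at least `k` has dimension at most `dim X - k`. -/
theorem dim_add_le (T : Set X) (hT : IsClosed T) (k : ℕ) (h : ∀ x ∈ T, (k : ℕ∞) ≤ coheight x) :
    topologicalKrullDim T + k ≤ topologicalKrullDim X := by
  haveI : QuasiSober T := hT.isClosedEmbedding_subtypeVal.quasiSober
  by_cases hne : Nonempty T
  swap
  · haveI : IsEmpty T := not_nonempty_iff.mp hne
    have : topologicalKrullDim T = ⊥ := by
      rw [topologicalKrullDim, krullDim_eq_bot_iff]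
      exact ⟨fun s => isEmptyElim s.2.nonempty.some⟩
    rw [this, WithBot.bot_add]
    exact bot_le
  haveI : Nonempty X := hne.map Subtype.val
  have e1 : topologicalKrullDim T = krullDim T := by
    have h0 : topologicalKrullDim T = @krullDim T (specializationOrder T).toPreorder :=
      @krullDim_eq_of_orderIso _ _ _ (specializationOrder T).toPreorder irreducibleSetEquivPoints
    refine h0.trans (krullDim_congr (specializationOrder T).toPreorder _ fun a b => ?_)
    exact (subtype_specializes_iff (x := b) (y := a))
  have e2 : topologicalKrullDim X = krullDim X :=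
    krullDim_eq_of_orderIso irreducibleSetEquivPoints
  have hmono : StrictMono (Subtype.val : T → X) := Subtype.strictMono_coe _
  rw [e1, e2, krullDim_eq_iSup_height (α := T), krullDim_eq_iSup_height_add_coheight_of_nonempty]
  have hkey : (⨆ a : T, height a) + (k : ℕ∞) ≤ ⨆ a : X, height a + coheight a := by
    rw [ENat.iSup_add]
    refine iSup_le fun a => le_trans ?_ (le_iSup (fun x : X => height x + coheight x) a.1)
    exact add_le_add (height_le_height_apply_of_strictMono _ hmono a) (h a.1 a.2)
  calc (⨆ a : T, (height a : WithBot ℕ∞)) + (k : WithBot ℕ∞)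
      = ((⨆ a : T, height a : ℕ∞) : WithBot ℕ∞) + ((k : ℕ∞) : WithBot ℕ∞) := by
        rw [WithBot.coe_iSup (OrderTop.bddAbove _)]; rfl
    _ = (((⨆ a : T, height a) + (k : ℕ∞) : ℕ∞) : WithBot ℕ∞) := (WithBot.coe_add _ _).symm
    _ ≤ _ := by exact_mod_cast hkey

/-- A point of a Noetherian scheme of codimension `0` lies in every dense open. -/
theorem mem_of_coheight_eq_zero [NoetherianSpace X] (U : X.Opens) (hU : Dense (U : Set X)) (x : X)
    (hx : coheight x = 0) : x ∈ U := by
  have hmax : ∀ y : X, y ⤳ x → x ⤳ y := fun y hy => (coheight_eq_zero.mp hx) hy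
  let C : Set (Set X) := {Z ∈ irreducibleComponents X | x ∉ Z}
  let W : Set X := (⋃ Z ∈ C, Z)ᶜ
  have hfin : C.Finite := NoetherianSpace.finite_irreducibleComponents.subset fun Z hZ => hZ.1
  have hW : IsOpen W :=
    (hfin.isClosed_biUnion fun Z hZ => isClosed_of_mem_irreducibleComponents Z hZ.1).isOpen_compl
  have hxW : x ∈ W := by
    simp only [W, Set.mem_compl_iff, Set.mem_iUnion, not_exists]
    exact fun Z hZ hx' => hZ.2 hx'
  obtain ⟨z, hzU, hzW⟩ := hU.exists_mem_open hW ⟨x, hxW⟩
  let Z := irreducibleComponent z
  have hZ : Z ∈ irreducibleComponents X := irreducibleComponent_mem_irreducibleComponents z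
  have hxZ : x ∈ Z := by
    by_contra hn
    exact hzW (Set.mem_biUnion (show Z ∈ C from ⟨hZ, hn⟩) mem_irreducibleComponent)
  obtain ⟨η, hη⟩ := QuasiSober.sober hZ.1 (isClosed_of_mem_irreducibleComponents Z hZ)
  have h1 : η ⤳ x := hη.specializes hxZ
  have h2 : x ⤳ z := (hmax η h1).trans (hη.specializes mem_irreducibleComponent)
  exact h2.mem_open U.isOpen hzU

/-- The complement of a dense open of a `d`-dimensional Noetherian scheme has smaller dimension. -/
theorem dim_compl_add_one_le [NoetherianSpace X] (U : X.Opens) (hU : Dense (U : Set X)) :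
    topologicalKrullDim ((U : Set X)ᶜ : Set X) + 1 ≤ topologicalKrullDim X := by
  refine dim_add_le _ U.isOpen.isClosed_compl 1 fun x hx => ?_
  exact Order.one_le_iff_pos.mpr (pos_iff_ne_zero.mpr fun h => hx (mem_of_coheight_eq_zero U hU x h))

/-- A closed set avoiding the points of codimension at most one. -/
theorem dim_add_two_le (T : Set X) (hT : IsClosed T)
    (h : ∀ x : X, ringKrullDim (X.presheaf.stalk x) ≤ 1 → x ∉ T) :
    topologicalKrullDim T + 2 ≤ topologicalKrullDim X := by
  refine dim_add_le T hT 2 fun x hx => ?_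
  by_contra hlt
  refine h x ?_ hx
  rw [ringKrullDim_stalk_eq_coheight]
  have : coheight x ≤ 1 := by
    cases hc : coheight x with
    | top => simp [hc] at hlt
    | coe m =>
      rw [hc, Nat.cast_le] at hlt
      exact_mod_cast (by omega : m ≤ 1)
  exact_mod_cast this

/-- Dropping a natural number from a bound on a dimension. -/
theorem le_sub_of_add_le {a : WithBot ℕ∞} {k d : ℕ} (hk : k ≤ d) (h : a + (k : WithBot ℕ∞) ≤ (d : WithBot ℕ∞)) :
    a ≤ ((d - k : ℕ) : WithBot ℕ∞) := by
  induction a with
  | bot => exact bot_le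
  | coe a =>
    cases a with
    | top =>
      have h' : (⊤ : ℕ∞) + (k : ℕ∞) ≤ (d : ℕ∞) := by exact_mod_cast h
      simp at h'
    | coe m =>
      have h' : m + k ≤ d := by exact_mod_cast h
      have h'' : m ≤ d - k := by omega
      exact WithBot.coe_le_coe.mpr (Nat.cast_le.mpr h'')

end CohAmpLib
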