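import Groth.Agent.CohAmpLib.Tools
import Groth.Agent.FormalCohLib.Counit
import Groth.Agent.ConsLib.ModLoci

/-!
# Every coherent module is dominated by a direct image, on a large open
-/

set_option autoImplicit false
set_option linter.style.haveILetI false
set_option backward.isDefEq.respectTransparency false
set_option backward.isDefEq.respectTransparency.types false

universe u

open CategoryTheory CategoryTheory.Limits AlgebraicGeometry TopologicalSpace Opposite
open KFlatLib

noncomputable section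

namespace CohAmpLib

theorem exists_dominating {X Y : Scheme.{u}} [IsNoetherian X] [IsNoetherian Y] (f : Y ⟶ X) [IsProper f]
    (U V : X.Opens) (hUV : U ≤ V) [IsIso (f ∣_ U)]
    (hV : ∀ W : X.Opens, IsAffineOpen W → W ≤ V → IsAffineOpen (f ⁻¹ᵁ W))
    (G : X.Modules) (hG : Coh.IsCoh G) :
    ∃ (H : Y.Modules) (K : X.Modules) (p₁ : K ⟶ (Scheme.Modules.pushforward f).obj H) (p₂ : K ⟶ G),
      Coh.IsCoh H ∧ Coh.IsCoh K ∧ IsIso ((Scheme.Modules.restrictFunctor V.ι).map p₁) ∧
      IsIso ((Scheme.Modules.restrictFunctor U.ι).map p₂) := by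
  haveI := hG.1
  let H₀ := pb f G
  have hH₀ : Coh.IsCoh H₀ := ConsLib.isCoh_pullback f hG
  haveI := hH₀.1
  let B := pf f H₀
  have hB : Coh.IsCoh B := FormalCohLib.isCoh_push_proper f hH₀
  haveI : Coh.IsQCoh B := hB.1
  haveI : Coh.IsQCoh (pf f (pb f G)) := hB.1
  let u : G ⟶ B := (Scheme.Modules.pullbackPushforwardAdjunction f).unit.app G
  haveI hu : IsIso ((Scheme.Modules.restrictFunctor U.ι).map u) := isIso_restrict_unit f G U
  let I := Scheme.IdealSheafData.vanishingIdeal (X := X) ⟨(U : Set X)ᶜ, U.isOpen.isClosed_compl⟩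
  have hI : (I.support : Set X) = (U : Set X)ᶜ := by
    rw [Scheme.IdealSheafData.coe_support_vanishingIdeal]; rfl
  have hIn : ∀ (n : ℕ) x, x ∈ U → x ∉ ((I ^ n).support : Set X) := fun n x hx =>
    CohExtLib.notMem_support_pow n (by rw [hI]; exact not_not_intro hx)
  obtain ⟨m, hm⟩ := CohExtLib.exists_mono_idealMulι_comp hG u (I := I)
    ((CohExtLib.support_kernel_subset u (U := U)).trans hI.ge)
  haveI := hm
  let G' := (Dual3.idealMul (I ^ m)).obj G
  have hG' : Coh.IsCoh G' := CohExtLib.isCoh_idealMul _ hG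
  haveI := hG'.1
  let q : G' ⟶ B := Dual3.idealMulι (I ^ m) G ≫ u
  haveI hq : IsIso ((Scheme.Modules.restrictFunctor U.ι).map q) := by
    haveI := CohExtLib.isIso_restrict_idealMulι (I ^ m) G (U := U) (hIn m)
    rw [Functor.map_comp]
    infer_instance
  have hC : Coh.IsCoh (cokernel q) := QCohLib.isCoh_cokernel q inferInstance hB
  obtain ⟨N, hN⟩ := CohExtLib.exists_killed_pow hC (I := I)
    ((CohExtLib.support_cokernel_subset q (U := U)).trans hI.ge)
  let J : Y.IdealSheafData := (I ^ N).comap f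
  let H := (Dual3.idealMul J).obj H₀
  have hH : Coh.IsCoh H := CohExtLib.isCoh_idealMul J hH₀
  haveI := hH.1
  have hfH : Coh.IsCoh (pf f H) := FormalCohLib.isCoh_push_proper f hH
  haveI : Coh.IsQCoh (pf f H) := hfH.1
  let κ : pf f H ⟶ B := (Scheme.Modules.pushforward f).map (Dual3.idealMulι J H₀)
  haveI hκ : IsIso ((Scheme.Modules.restrictFunctor U.ι).map κ) := by
    haveI : IsIso ((Scheme.Modules.restrictFunctor (f ⁻¹ᵁ U).ι).map (Dual3.idealMulι J H₀)) :=
      CohExtLib.isIso_restrict_idealMulι J H₀ (U := f ⁻¹ᵁ U) fun y hy hyJ => by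
        rw [show (J.support : Set Y) = f ⁻¹' ((I ^ N).support : Set X) from
          congrArg (fun C : Closeds Y => (C : Set Y)) (Scheme.IdealSheafData.support_comap (I ^ N) f)] at hyJ
        exact hIn N _ hy hyJ
    exact isIso_restrict_push f _ U
  -- the composite to the cokernel vanishes over `V`
  let R := Scheme.Modules.restrictFunctor V.ι
  have hsec : ∀ W : X.Opens, IsAffineOpen W → W ≤ V → ∀ z, (cokernel.π q).app W (κ.app W z) = 0 := by
    intro W hW hWV z
    have hfW := hV W hW hWV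
    have hmem := CohExtLib.app_idealMulι_mem J H₀ hfW z
    rw [ideal_comap_of_affine f (I ^ N) ⟨W, hW⟩ hfW] at hmem
    let τ : Γ(H₀, f ⁻¹ᵁ W) → Γ(B, W) := fun h => h
    have key : ∀ b ∈ Ideal.map (f.app W).hom ((I ^ N).ideal ⟨W, hW⟩), ∀ h : Γ(H₀, f ⁻¹ᵁ W),
        (cokernel.π q).app W (τ (b • h)) = 0 := by
      intro b hb
      refine Submodule.span_induction (p := fun b _ => ∀ h : Γ(H₀, f ⁻¹ᵁ W),
        (cokernel.π q).app W (τ (b • h)) = 0) ?_ ?_ ?_ ?_ hb
      · rintro _ ⟨r, hr, rfl⟩ h
        refine ((cokernel.π q).app_smul r (τ h)).trans ?_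
        exact hN ⟨W, hW⟩ r hr _
      · intro h
        rw [zero_smul]
        exact map_zero ((cokernel.π q).app W).hom
      · intro a c _ _ ha hc h
        rw [add_smul]
        exact (map_add ((cokernel.π q).app W).hom _ _).trans (by rw [ha h, hc h, add_zero])
      · intro c a _ ha h
        rw [smul_eq_mul, mul_comm, mul_smul]
        exact ha (c • h)
    refine Submodule.smul_induction_on (p := fun x => (cokernel.π q).app W (τ x) = 0) hmem
      (fun b hb h _ => key b hb h) fun a c ha hc => ?_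
    exact (map_add ((cokernel.π q).app W).hom _ _).trans (by rw [ha, hc, add_zero])
  have hzero : R.map κ ≫ R.map (cokernel.π q) = 0 := by
    haveI : Coh.IsQCoh (R.obj (pf f H)) :=
      haveI := KFlatLib.isQCoh_pullback V.ι (pf f H)
      QCohLib.isQCoh_of_iso ((Scheme.Modules.restrictFunctorIsoPullback V.ι).app (pf f H)).symm
    rw [← Functor.map_comp]
    refine CohExtLib.hom_eq_zero_of_affine _ fun W hW z => ?_
    exact hsec (V.ι ''ᵁ W) (hW.image_of_isOpenImmersion V.ι) (by rintro _ ⟨x, -, rfl⟩; exact x.2) z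
  let S : ShortComplex X.Modules := ShortComplex.mk q (cokernel.π q) (cokernel.condition q)
  have hS : S.Exact := ShortComplex.exact_of_g_is_cokernel _ (cokernelIsCokernel q)
  haveI : Mono S.f := hm
  have hRS : (S.map R).Exact := hS.map R
  haveI : Mono (S.map R).f := inferInstanceAs (Mono (R.map q))
  let φ : R.obj (pf f H) ⟶ R.obj G' := hRS.lift (R.map κ) hzero
  have hφ : φ ≫ R.map q = R.map κ := hRS.lift_f (R.map κ) hzero
  obtain ⟨K, p₁, p₂, hK, hp₁, hp₂⟩ :=
    CohExtLib.exists_graph (F := G) hfH V (φ ≫ R.map (Dual3.idealMulι (I ^ m) G))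
  refine ⟨H, K, p₁, p₂, hH, hK, hp₁, CohExtLib.isIso_restrict _ fun W hW => ?_⟩
  have hcomp : R.map (p₂ ≫ u) = R.map (p₁ ≫ κ) := by
    rw [Functor.map_comp, Functor.map_comp, hp₂, Category.assoc, Category.assoc, ← Functor.map_comp, hφ]
  have happ : ∀ z, u.app W (p₂.app W z) = κ.app W (p₁.app W z) := by
    have h := congr(Scheme.Modules.Hom.app $hcomp (V.ι ⁻¹ᵁ W))
    have hWV := CohExtLib.preimage_image (hW.trans hUV)
    have key : ∀ W' : X.Opens, W' = W → (p₂ ≫ u).app W' = (p₁ ≫ κ).app W' →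
        ∀ z, u.app W (p₂.app W z) = κ.app W (p₁.app W z) := by
      rintro _ rfl e z
      exact congr($e z)
    exact key _ hWV h
  have hb₁ : Function.Bijective (p₁.app W) := CohExtLib.bijective_app p₁ (U := V) (hW.trans hUV)
  have hbu : Function.Bijective (u.app W) := CohExtLib.bijective_app u (U := U) hW
  have hbκ : Function.Bijective (κ.app W) := CohExtLib.bijective_app κ (U := U) hW
  refine (Function.Bijective.of_comp_iff' hbu _).mp ?_
  rw [show (u.app W) ∘ (p₂.app W) = (κ.app W) ∘ (p₁.app W) from funext happ]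
  exact hbκ.comp hb₁

end CohAmpLib
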