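import Groth.Agent.SuppCdLib.Basic
import Groth.Agent.AffProjFormLib.Basic
import Groth.Agent.KFlatLib.PerfectPull
import Groth.Agent.CurvLib.SupportVanish
import Groth.Agent.BddFamLib.Ops
import Groth.Agent.ChevLib.Basic
import Groth.Agent.CohAmpLib.Dim

/-!
# Modules compared on a large open
-/

set_option autoImplicit false
set_option linter.style.haveILetI false
set_option backward.isDefEq.respectTransparency false
set_option backward.isDefEq.respectTransparency.types false

universe u

open CategoryTheory CategoryTheory.Limits AlgebraicGeometry TopologicalSpace Opposite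
open scoped TensorProduct
open KFlatLib CohBCLib

noncomputable section

namespace CohAmpLib

variable {X : Scheme.{u}}

/-- A map bijective on the affine opens of `U` is an isomorphism on `U`. -/
theorem isIso_restrict_of_affine {M N : X.Modules} [Coh.IsQCoh M] [Coh.IsQCoh N] (φ : M ⟶ N) (U : X.Opens)
    (h : ∀ W : X.Opens, IsAffineOpen W → W ≤ U → Function.Bijective (φ.app W)) :
    IsIso ((Scheme.Modules.restrictFunctor U.ι).map φ) := by
  haveI : Coh.IsQCoh ((Scheme.Modules.restrictFunctor U.ι).obj M) :=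
    haveI := KFlatLib.isQCoh_pullback U.ι M
    QCohLib.isQCoh_of_iso ((Scheme.Modules.restrictFunctorIsoPullback U.ι).app M).symm
  haveI : Coh.IsQCoh ((Scheme.Modules.restrictFunctor U.ι).obj N) :=
    haveI := KFlatLib.isQCoh_pullback U.ι N
    QCohLib.isQCoh_of_iso ((Scheme.Modules.restrictFunctorIsoPullback U.ι).app N).symm
  exact QCohLib.isIso_of_bijective_affine _ fun W hW =>
    h (U.ι ''ᵁ W) (hW.image_of_isOpenImmersion U.ι) (by rintro _ ⟨z, -, rfl⟩; exact z.2)

/-- Tensoring keeps isomorphisms on an open. -/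
theorem isIso_restrict_tensor {M M' : X.Modules} (p : M ⟶ M') (N : X.Modules) (U : X.Opens)
    [IsIso ((Scheme.Modules.restrictFunctor U.ι).map p)] :
    IsIso ((Scheme.Modules.restrictFunctor U.ι).map (((DCoh.tensorBi (X := X)).map p).app N)) := by
  rw [NatIso.isIso_map_iff (Scheme.Modules.restrictFunctorIsoPullback U.ι)]
  haveI hp : IsIso ((Scheme.Modules.pullback U.ι).map p) := by
    rw [← NatIso.isIso_map_iff (Scheme.Modules.restrictFunctorIsoPullback U.ι)]
    infer_instance
  exact IsIso.of_isIso_fac_right (h := pullθ U.ι M N ≫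
    ((DCoh.tensorBi (X := (U : Scheme.{u}))).map ((Scheme.Modules.pullback U.ι).map p)).app (pb U.ι N))
    (pullθ_natural_left U.ι p N)

/-- The cohomology in degree `d` only depends on the restriction to an open with small complement. -/
theorem nonempty_HH_equiv [IsNoetherian X] {d : ℕ} (hd : 1 ≤ d) (V : X.Opens)
    (hV : topologicalKrullDim ((V : Set X)ᶜ : Set X) + 2 ≤ (d : WithBot ℕ∞))
    {H F : X.Modules} (p : H ⟶ F) (hH : Coh.IsCoh H) (hF : Coh.IsCoh F)
    [IsIso ((Scheme.Modules.restrictFunctor V.ι).map p)] :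
    Nonempty (Coh.HH X H d ≃+ Coh.HH X F d) := by
  let J := Scheme.IdealSheafData.vanishingIdeal (X := X) ⟨(V : Set X)ᶜ, V.isOpen.isClosed_compl⟩
  have hr : Set.range J.subschemeι = (V : Set X)ᶜ := by
    rw [Scheme.IdealSheafData.range_subschemeι, Scheme.IdealSheafData.coe_support_vanishingIdeal]
    rfl
  obtain ⟨i, rfl⟩ : ∃ i, d = i + 1 := ⟨d - 1, by omega⟩
  refine SuppCdLib.nonempty_equiv_of_map J.subschemeι (m := i) (fun G hG j hj => ?_) p hH hF
    (U := V) (by rw [hr, compl_compl]) le_rfl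
  haveI := hG
  haveI : IsLocallyNoetherian J.subscheme := LocallyOfFiniteType.isLocallyNoetherian J.subschemeι
  haveI : CompactSpace J.subscheme := QuasiCompact.compactSpace_of_compactSpace J.subschemeι
  haveI : IsNoetherian J.subscheme := {}
  have hdim : topologicalKrullDim J.subscheme = topologicalKrullDim ((V : Set X)ᶜ : Set X) := by
    rw [← hr]
    exact IsHomeomorph.topologicalKrullDim_eq _
      J.subschemeι.isClosedEmbedding.isEmbedding.toHomeomorph.isHomeomorph
  by_cases hi : i = 0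
  · subst hi
    haveI : IsEmpty J.subscheme := by
      by_contra hne
      rw [not_isEmpty_iff] at hne
      haveI : Nonempty (IrreducibleCloseds J.subscheme) :=
        ⟨⟨closure {hne.some}, isIrreducible_singleton.closure, isClosed_closure⟩⟩
      have h0 : (0 : WithBot ℕ∞) ≤ topologicalKrullDim J.subscheme := Order.krullDim_nonneg
      rw [hdim] at h0
      have := (add_le_add h0 (le_refl (2 : WithBot ℕ∞))).trans hV
      norm_num at this
    have hz : IsZero G := DevissLib.isZero_of_support_empty (Set.eq_empty_of_isEmpty _)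
    refine subsingleton_of_forall_eq 0 fun x => ?_
    have h1 : Sheaf.H.map ((QCohLib.toAbF J.subscheme).map (𝟙 G)) j x = x := by
      rw [CategoryTheory.Functor.map_id, Sheaf.H.map_id_apply]
    rw [← h1, hz.eq_of_src (𝟙 G) 0]
    simp [CategoryTheory.Sheaf.H.map]
  · refine CurvLib.subsingleton_HH_of_dim_le G (d := i - 1) ?_ j (by omega)
    rw [hdim]
    have := le_sub_of_add_le (k := 2) (d := i + 1) (by omega) hV
    rwa [show i + 1 - 2 = i - 1 by omega] at this

/-- Vanishing in degree `d` passes along maps which are surjective outside a small closed set. -/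
theorem subsingleton_HH_of_map [IsNoetherian X] {d : ℕ} (U : X.Opens)
    (hU : topologicalKrullDim ((U : Set X)ᶜ : Set X) + 1 ≤ (d : WithBot ℕ∞)) (hd : 1 ≤ d)
    {H F : X.Modules} (p : H ⟶ F) (hH : Coh.IsCoh H) (hF : Coh.IsCoh F)
    [IsIso ((Scheme.Modules.restrictFunctor U.ι).map p)] (h : Subsingleton (Coh.HH X H d)) :
    Subsingleton (Coh.HH X F d) := by
  haveI := hF.1
  haveI := hH.1
  have hU' : topologicalKrullDim ((U : Set X)ᶜ : Set X) ≤ ((d - 1 : ℕ) : WithBot ℕ∞) :=
    le_sub_of_add_le (k := 1) hd hU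
  have vK : ∀ j, d ≤ j → Subsingleton (Coh.HH X (kernel p) j) := fun j hj =>
    CurvLib.subsingleton_HH_of_support _ U.isOpen.isClosed_compl
      (CohExtLib.support_kernel_subset p) hU' j (by omega)
  have vC : ∀ j, d ≤ j → Subsingleton (Coh.HH X (cokernel p) j) := fun j hj =>
    CurvLib.subsingleton_HH_of_support _ U.isOpen.isClosed_compl
      (CohExtLib.support_cokernel_subset p) hU' j (by omega)
  let S₁ := ShortComplex.mk (kernel.ι p) (Abelian.factorThruImage p) (by
    rw [← cancel_mono (Abelian.image.ι p), Category.assoc, Abelian.image.fac, zero_comp, kernel.condition])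
  have hS₁ : S₁.ShortExact :=
    { exact := ShortComplex.exact_of_f_is_kernel _ (KernelFork.IsLimit.ofι _ _
        (fun g hg => kernel.lift p g (by rw [← Abelian.image.fac p, ← Category.assoc, hg, zero_comp]))
        (fun g hg => kernel.lift_ι _ _ _)
        (fun g hg l hl => by
          rw [← cancel_mono (kernel.ι p), kernel.lift_ι]
          exact hl))
      mono_f := inferInstance
      epi_g := inferInstance }
  let S₂ := ShortComplex.mk (Abelian.image.ι p) (cokernel.π p) (kernel.condition _)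
  have hS₂ : S₂.ShortExact :=
    { exact := ShortComplex.exact_of_f_is_kernel _ (kernelIsKernel _)
      mono_f := inferInstance
      epi_g := inferInstance }
  obtain ⟨e₁⟩ := SuppCdLib.bijective_g hS₁ (vK d le_rfl) (vK (d + 1) (by omega))
  haveI := h
  exact SuppCdLib.subsingleton_mid hS₂ e₁.symm.injective.subsingleton (vC d le_rfl)

variable {Y : Scheme.{u}} (f : Y ⟶ X)

/-- Direct images of maps which are isomorphisms on a preimage. -/
theorem isIso_restrict_push {M N : Y.Modules} (p : M ⟶ N) (V : X.Opens)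
    [IsIso ((Scheme.Modules.restrictFunctor (f ⁻¹ᵁ V).ι).map p)] :
    IsIso ((Scheme.Modules.restrictFunctor V.ι).map ((Scheme.Modules.pushforward f).map p)) :=
  CohExtLib.isIso_restrict _ fun W hW => CohExtLib.bijective_app p (U := f ⁻¹ᵁ V) (f.preimage_mono hW)

/-- The unit is an isomorphism over an open over which `f` is one. -/
theorem isIso_restrict_unit (G : X.Modules) [Coh.IsQCoh G] [Coh.IsQCoh (pf f (pb f G))] (U : X.Opens)
    [IsIso (f ∣_ U)] :
    IsIso ((Scheme.Modules.restrictFunctor U.ι).map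
      ((Scheme.Modules.pullbackPushforwardAdjunction f).unit.app G)) := by
  refine @isIso_restrict_of_affine X G (pf f (pb f G)) _ _
    ((Scheme.Modules.pullbackPushforwardAdjunction f).unit.app G) U fun W hW hWU => ?_
  haveI : IsIso (f.app W) := by
    have hW' : U.ι ''ᵁ (U.ι ⁻¹ᵁ W) = W := CohExtLib.preimage_image hWU
    rw [← hW']
    have h : IsIso ((f ∣_ U).app (U.ι ⁻¹ᵁ W)) := inferInstance
    rw [morphismRestrict_app] at h
    exact IsIso.of_isIso_comp_right _ ((Y.presheaf).map
      (eqToHom (image_morphismRestrict_preimage f U (U.ι ⁻¹ᵁ W))).op)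
  have hV : IsAffineOpen (f ⁻¹ᵁ W) := by
    have h1 : IsAffineOpen ((f ∣_ U) ⁻¹ᵁ (U.ι ⁻¹ᵁ W)) :=
      (hW.preimage_of_isOpenImmersion U.ι (by rw [Scheme.Opens.opensRange_ι]; exact hWU)).preimage (f ∣_ U)
    have h2 := h1.image_of_isOpenImmersion (f ⁻¹ᵁ U).ι
    rwa [image_morphismRestrict_preimage, CohExtLib.preimage_image hWU] at h2
  letI : Algebra Γ(X, W) Γ(Y, f ⁻¹ᵁ W) := (f.app W).hom.toAlgebra
  letI : Module Γ(X, W) Γ(pb f G, f ⁻¹ᵁ W) := Module.compHom _ (f.app W).hom
  haveI : IsScalarTower Γ(X, W) Γ(Y, f ⁻¹ᵁ W) Γ(pb f G, f ⁻¹ᵁ W) :=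
    IsScalarTower.of_algebraMap_smul fun _ _ => rfl
  let ψ : Γ(G, W) →ₗ[Γ(X, W)] Γ(pb f G, f ⁻¹ᵁ W) :=
    { toFun := fun m => puSec f m
      map_add' := fun m m' => map_add (((Scheme.Modules.pullbackPushforwardAdjunction f).unit.app G).app W).hom m m'
      map_smul' := fun r m => puSec_smul f r m }
  have hψ : ∀ m, ψ m = puSecLE f G (le_refl (f ⁻¹ᵁ W)) m := fun m => by
    rw [puSecLE_apply]
    exact (congr($((pb f G).presheaf.map_id (op (f ⁻¹ᵁ W))) (puSec f m))).symm
  have hbc : IsBaseChange Γ(Y, f ⁻¹ᵁ W) ψ := KFlatLib.isBaseChange_puSec (g := f) G hW hV (le_refl _)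
    (fun r => by rw [← Scheme.Hom.app_eq_appLE]; rfl) ψ hψ
  have hb : Function.Bijective (algebraMap Γ(X, W) Γ(Y, f ⁻¹ᵁ W)) := ConcreteCategory.bijective_of_isIso (f.app W)
  let e := (TensorProduct.lid Γ(X, W) Γ(G, W)).symm.toAddEquiv.trans
    (((TensorProduct.congr (LinearEquiv.ofBijective (Algebra.linearMap Γ(X, W) Γ(Y, f ⁻¹ᵁ W)) hb)
      (LinearEquiv.refl Γ(X, W) Γ(G, W))).toAddEquiv).trans hbc.equiv.toAddEquiv)
  have he : ∀ m, ψ m = e m := fun m => by simp [e, IsBaseChange.equiv_tmul]
  show Function.Bijective ψ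
  rw [show (ψ : Γ(G, W) → _) = e from funext he]
  exact e.bijective

/-- The projection formula over an open over which `f` is affine. -/
theorem isIso_restrict_projR (a : Y.Modules) (b : X.Modules) [Coh.IsQCoh a] [Coh.IsQCoh b]
    [Coh.IsQCoh (pf f a)] [Coh.IsQCoh (tens (pf f a) b)] [Coh.IsQCoh (tens a (pb f b))]
    [Coh.IsQCoh (pf f (tens a (pb f b)))] (V : X.Opens)
    (hV : ∀ W : X.Opens, IsAffineOpen W → W ≤ V → IsAffineOpen (f ⁻¹ᵁ W)) :
    IsIso ((Scheme.Modules.restrictFunctor V.ι).map (ProjClosedImmLib.projR f a b)) := by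
  refine isIso_restrict_of_affine _ V fun U hU hUV => ?_
  have hV := hV U hU hUV
  haveI := KFlatLib.isQCoh_pullback f b
  let V' := f ⁻¹ᵁ U
  letI : Algebra Γ(X, U) Γ(Y, V') := (f.app U).hom.toAlgebra
  letI : Module Γ(X, U) Γ(pb f b, V') := Module.compHom _ (f.app U).hom
  haveI : IsScalarTower Γ(X, U) Γ(Y, V') Γ(pb f b, V') := IsScalarTower.of_algebraMap_smul fun _ _ => rfl
  letI : Module Γ(X, U) Γ(a, V') := Module.compHom _ (f.app U).hom
  haveI : IsScalarTower Γ(X, U) Γ(Y, V') Γ(a, V') := IsScalarTower.of_algebraMap_smul fun _ _ => rfl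
  let ψ : Γ(b, U) →ₗ[Γ(X, U)] Γ(pb f b, V') :=
    { toFun := fun m => puSec f m
      map_add' := fun m m' => map_add (((Scheme.Modules.pullbackPushforwardAdjunction f).unit.app b).app U).hom m m'
      map_smul' := fun r m => puSec_smul f r m }
  have hψ : ∀ m, ψ m = puSecLE f b (le_refl V') m := fun m => by
    rw [puSecLE_apply]
    exact (congr($((pb f b).presheaf.map_id (op V')) (puSec f m))).symm
  have hbc : IsBaseChange Γ(Y, V') ψ := KFlatLib.isBaseChange_puSec (g := f) b hU hV (le_refl V')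
    (fun r => by rw [← Scheme.Hom.app_eq_appLE]; rfl) ψ hψ
  let c : Γ(a, V') ⊗[Γ(Y, V')] Γ(pb f b, V') ≃+ Γ(a, V') ⊗[Γ(X, U)] Γ(b, U) :=
    ((TensorProduct.congr (LinearEquiv.refl Γ(Y, V') Γ(a, V')) hbc.equiv.symm).toAddEquiv).trans
      (TensorProduct.AlgebraTensorModule.cancelBaseChange Γ(X, U) Γ(Y, V') Γ(Y, V') Γ(a, V') Γ(b, U)).toAddEquiv
  have hsurj := secTens_bijective (pf f a) b hU
  refine (Function.Bijective.of_comp_iff _ hsurj).mp ?_
  have key : ∀ t, (ProjClosedImmLib.projR f a b).app U (secTens (pf f a) b U t) =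
      secTens a (pb f b) V' (c.symm (show Γ(a, V') ⊗[Γ(X, U)] Γ(b, U) from t)) := by
    intro t
    induction t using TensorProduct.induction_on with
    | zero =>
      refine (congrArg _ (map_zero (secTens (pf f a) b U))).trans
        ((map_zero ((ProjClosedImmLib.projR f a b).app U).hom).trans ?_)
      exact ((congrArg _ (map_zero _)).trans (map_zero (secTens a (pb f b) V'))).symm
    | tmul s m =>
      refine (ProjClosedImmLib.projR_shTm f a b s m).trans ?_
      have : c.symm ((show Γ(a, V') from s) ⊗ₜ[Γ(X, U)] m) = (show Γ(a, V') from s) ⊗ₜ[Γ(Y, V')] ψ m := by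
        simp [c, IsBaseChange.equiv_tmul]
      exact (congrArg (secTens a (pb f b) V') this).symm
    | add x y hx hy =>
      refine (congrArg _ (map_add (secTens (pf f a) b U) x y)).trans
        ((map_add ((ProjClosedImmLib.projR f a b).app U).hom _ _).trans ?_)
      refine (congr_arg₂ (fun p q => p + q) hx hy).trans ?_
      exact ((congrArg _ (map_add _ x y)).trans (map_add (secTens a (pb f b) V') _ _)).symm
  have : ((ProjClosedImmLib.projR f a b).app U ∘ secTens (pf f a) b U) =
      secTens a (pb f b) V' ∘ c.symm := funext key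
  rw [this]
  exact (secTens_bijective a (pb f b) hV).comp c.symm.bijective

/-- The pullback ideal over an affine open with affine preimage. -/
theorem ideal_comap_of_affine (I : X.IdealSheafData) (U : X.affineOpens) (hU : IsAffineOpen (f ⁻¹ᵁ U.1)) :
    (I.comap f).ideal ⟨f ⁻¹ᵁ U.1, hU⟩ = (I.ideal U).map (f.app U.1).hom := by
  let W : Y.affineOpens := ⟨f ⁻¹ᵁ U.1, hU⟩
  have : IsAffine (W.1 : Scheme) := W.2
  have : IsAffine (U.1 : Scheme) := U.2
  let e := W.1.ι.appLE W.1 ⊤ (by simp)
  have hbij : Function.Bijective e.hom := by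
    have : IsIso e := by
      have h0 := W.1.ι_image_top
      have : (homOfLE (X := Y.Opens) (show W.1.ι ''ᵁ ⊤ ≤ W.1 from h0.le)) = eqToHom h0 :=
        Subsingleton.elim _ _
      simp only [e, Scheme.Opens.ι_appLE, this, eqToHom_op, eqToHom_map]
      exact ⟨eqToHom (by show Γ(Y, W.1.ι ''ᵁ ⊤) = _; rw [h0]), eqToHom_trans _ _, eqToHom_trans _ _⟩
    exact ConcreteCategory.bijective_of_isIso _
  have key : ((I.comap f).ideal W).map e.hom = ((I.ideal U).map (f.app U.1).hom).map e.hom := by
    rw [← ChevLib.ideal_comap_openImmersion_top (I.comap f) W.1.ι W (by simp),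
      ← Scheme.IdealSheafData.comap_comp, show W.1.ι ≫ f = (f ∣_ U.1) ≫ U.1.ι from
        (morphismRestrict_ι f U.1).symm, Scheme.IdealSheafData.comap_comp,
      ChevLib.ideal_comap_top_of_isAffine, ChevLib.ideal_comap_openImmersion_top I U.1.ι U (by simp),
      Ideal.map_map, Ideal.map_map, ← CommRingCat.hom_comp, ← CommRingCat.hom_comp]
    congr 2
    simp only [e, Scheme.Hom.appTop, Scheme.Hom.app_eq_appLE]
    erw [Scheme.Hom.appLE_comp_appLE, Scheme.Hom.appLE_comp_appLE]
    simp only [morphismRestrict_ι]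
    rfl
  have h2 := congrArg (Ideal.comap e.hom) key
  rwa [Ideal.comap_map_of_bijective e.hom hbij, Ideal.comap_map_of_bijective e.hom hbij] at h2

/-- Pullback commutes with tensor powers. -/
theorem nonempty_pullback_tensorPow (M : X.Modules) : ∀ n : ℕ,
    Nonempty (pb f (CohB1.tensorPow M n) ≅ CohB1.tensorPow (pb f M) n)
  | 0 => ⟨KFlatLib.pullUnitIso f⟩
  | n + 1 => by
    obtain ⟨e⟩ := nonempty_pullback_tensorPow M n
    exact ⟨asIso (pullθ f (CohB1.tensorPow M n) M) ≪≫
      ((DCoh.tensorBi (X := Y)).mapIso e).app (pb f M)⟩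

/-- Tensor powers of isomorphic modules. -/
theorem nonempty_tensorPow_congr {L M : X.Modules} (e : L ≅ M) :
    ∀ n : ℕ, Nonempty (CohB1.tensorPow L n ≅ CohB1.tensorPow M n)
  | 0 => ⟨Iso.refl _⟩
  | n + 1 => by
    obtain ⟨e'⟩ := nonempty_tensorPow_congr e n
    exact ⟨((DCoh.tensorBi (X := X)).mapIso e').app L ≪≫ ((DCoh.tensorBi (X := X)).obj _).mapIso e⟩

/-- Tensor powers of coherent modules are coherent. -/
theorem isCoh_tensorPow [IsLocallyNoetherian X] {F : X.Modules} (hF : Coh.IsCoh F) :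
    ∀ n : ℕ, Coh.IsCoh (CohB1.tensorPow F n)
  | 0 => DevissLib.isCoh_structureModule X
  | n + 1 => BddFamLib.isCoh_tensorMod (isCoh_tensorPow hF n) hF

end CohAmpLib
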