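import Groth.Agent.SerreVanLib.Rpush
import Groth.Agent.AtlasCohLib.PushCech
import Groth.Agent.AtlasCohLib.FiniteCoh
import Groth.Agent.AmpleDevLib.Devissage
import Groth.Agent.QCohLib.OpenRestr
import Groth.Agent.AmpleDevLib.Components
import Groth.Agent.MiscFlat6.RelAmpleComp

/-!
# Cohomology of direct images of ample twists
-/

set_option autoImplicit false
set_option linter.style.haveILetI false
set_option backward.isDefEq.respectTransparency false
set_option backward.isDefEq.respectTransparency.types false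

universe u

open CategoryTheory CategoryTheory.Limits AlgebraicGeometry TopologicalSpace Opposite
open QCohLib (AbSh HU toAbF)

noncomputable section

namespace CohAmpLib

/-- Cohomology on an open, read on the sheaf of groups. -/
theorem hhon_iff_hu {X : Scheme.{u}} (M : X.Modules) (U : X.Opens) (q : ℕ) :
    Subsingleton (Coh.HHon X M U q) ↔ Subsingleton (QCohLib.HU ((QCohLib.toAbF X).obj M) q U) := by
  obtain ⟨e⟩ := QCohLib.nonempty_HU_restrict U.ι M q ⊤
  rw [Scheme.Opens.ι_image_top] at e
  constructor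
  · intro h
    haveI := AmpleDevLib.hu_of_hh (M := M.restrict U.ι) h
    exact e.symm.injective.subsingleton
  · intro h
    exact AmpleDevLib.hh_of_hu (M := M.restrict U.ι) e.injective.subsingleton

/-- The positive degree cohomology of direct images of ample twists eventually vanishes. -/
theorem exists_vanishing_push (A : Type u) [CommRing A] [IsNoetherianRing A] {X Y : Scheme.{u}}
    (pX : X ⟶ Spec (CommRingCat.of A)) (pY : Y ⟶ Spec (CommRingCat.of A)) [IsProper pX] [IsProper pY]
    (f : Y ⟶ X) [IsProper f] (L : Y.Modules) (hL : CohB1.IsAmple L) (H : Y.Modules) (hH : Coh.IsCoh H) :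
    ∃ n₀ : ℕ, ∀ n : ℕ, n₀ ≤ n → ∀ i : ℕ, 0 < i →
      Subsingleton (Coh.HH X ((Coh.push f).obj (CohB1.tensorMod H (CohB1.tensorPow L n))) i) := by
  haveI : IsLocallyNoetherian X := LocallyOfFiniteType.isLocallyNoetherian pX
  haveI : IsLocallyNoetherian Y := LocallyOfFiniteType.isLocallyNoetherian pY
  haveI : CompactSpace X := QuasiCompact.compactSpace_of_compactSpace pX
  haveI : CompactSpace Y := QuasiCompact.compactSpace_of_compactSpace pY
  haveI : IsNoetherian X := {}
  haveI : IsNoetherian Y := {}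
  haveI : X.IsSeparated := ⟨by
    rw [← terminal.comp_from pX]
    infer_instance⟩
  have ha : ∀ W : X.Opens, IsAffineOpen W → CohB1.IsAmple (L.restrict (f ⁻¹ᵁ W).ι) := by
    intro W hW
    haveI : CompactSpace (f ⁻¹ᵁ W : Scheme.{u}) :=
      isCompact_iff_compactSpace.mp (f.isCompact_preimage hW.isCompact)
    refine MiscFlat6.isAmple_restrict_of_comp hL.1 (𝟙 Y) (f ⁻¹ᵁ W).ι (f ⁻¹ᵁ W).ι (Category.comp_id _) ?_
    exact AmpleDevLib.isAmple_of_iso hL.1 (AmpleThLib.restrict_isInvertible hL.1 (𝟙 Y))
      ((Scheme.Modules.restrictFunctorId (X := Y)).app L).symm hL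
  obtain ⟨n₁, h₁⟩ := SerreVanLib.exists_vanishing pY hL.1 hL H hH
  obtain ⟨n₂, h₂⟩ := SerreVanLib.exists_vanishing_rpush f L hL.1 ha H hH
  refine ⟨n₁ + n₂, fun n hn i hi => ?_⟩
  let N := CohB1.tensorMod H (CohB1.tensorPow L n)
  haveI : Coh.IsQCoh N := (SerreVanLib.isCoh_tensor hH (AmpleThLib.tensorPow_isInvertible hL.1 n)).1
  haveI : Coh.IsQCoh ((Coh.push f).obj N) := QCohLib.isQCoh_pushforward f N
  let V : X.affineOpens → X.Opens := fun U => U.1
  have hac : CechLib.Acyc (AtlasCoh.preFam f V) ((toAbF Y).obj N) := fun m J q => by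
    rw [AtlasCoh.cap_preFam]
    have hW := AtlasCoh.isAffineOpen_cap V (fun U => U.2) J
    refine (hhon_iff_hu N _ (q + 1)).mp ?_
    have hz := h₂ n (le_trans (Nat.le_add_left _ _) hn) (q + 1) (Nat.succ_pos q)
    obtain ⟨eI⟩ := RpushLib.nonempty_toAb_rpush_iso f N (q + 1)
    have hz' : IsZero (Coh.toAb ((Coh.Rpush f (q + 1)).obj N)) := hz.of_iso eI
    have hsec : Subsingleton Γ((Coh.Rpush f (q + 1)).obj N, CechLib.cap V J) := by
      have h0 : IsZero ((Coh.Rpush f (q + 1)).obj N) := by
        rw [IsZero.iff_id_eq_zero]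
        apply (QCohLib.toAbF X).map_injective
        exact hz'.eq_of_src _ _
      exact subsingleton_of_forall_eq 0 fun a =>
        congr(Scheme.Modules.Hom.app $(h0.eq_of_src (𝟙 _) 0) (CechLib.cap V J) a)
    exact (RpushLib.rpushSectionsEquiv f N (q + 1) hW).symm.injective.subsingleton
  obtain ⟨e, -⟩ := AtlasCoh.exists_HH_push_equiv f N V (iSup_affineOpens_eq_top X) hac
    (fun m J q => QCohLib.subsingleton_HU_affine _ q
      (AtlasCoh.isAffineOpen_cap V (fun U => U.2) J)) i
  haveI := h₁ n (le_trans (Nat.le_add_right _ _) hn) i hi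
  exact e.symm.injective.subsingleton

end CohAmpLib
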